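import Mathlib
/-!
Local structure of morphisms on affine charts.
-/
universe u
open AlgebraicGeometry CategoryTheory CategoryTheory.Limits
set_option backward.isDefEq.respectTransparency false
set_option linter.style.haveILetI false

namespace Groth.Agent.LocStd

theorem of_comp_mono {P : MorphismProperty Scheme.{u}} [P.IsStableUnderBaseChange] {A B C : Scheme.{u}}
    (g : A ⟶ B) (j : B ⟶ C) [Mono j] (h : P (g ≫ j)) : P g :=
  MorphismProperty.of_isPullback (IsPullback.of_horiz_isIso_mono (fst := 𝟙 A) (g := j) ⟨by simp⟩) h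

variable {P : MorphismProperty Scheme.{u}} {Q : ∀ {R S : Type u} [CommRing R] [CommRing S], (R →+* S) → Prop}
  [HasRingHomProperty P Q] [P.IsStableUnderBaseChange] [P.IsStableUnderComposition]

theorem appLE_of_nhd (hoi : ∀ {A B : Scheme.{u}} (j : A ⟶ B) [IsOpenImmersion j], P j)
    {X S : Scheme.{u}} (f : X ⟶ S) {W : X.Opens} (hW : P (W.ι ≫ f)) {V : S.Opens}
    (hV : IsAffineOpen V) {U : X.Opens} (hU : IsAffineOpen U) (hUW : U ≤ W) (e : U ≤ f ⁻¹ᵁ V) :
    Q (f.appLE V U e).hom := by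
  refine (HasRingHomProperty.Spec_iff (P := P)).1 (of_comp_mono _ hV.fromSpec ?_)
  rw [hV.SpecMap_appLE_fromSpec f hU e, ← hU.isoSpec_inv_ι, Category.assoc, ← Scheme.homOfLE_ι X hUW,
    Category.assoc]
  exact P.comp_mem _ _ (hoi _) (P.comp_mem _ _ (hoi _) hW)

theorem nhd_of_appLE (hoi : ∀ {A B : Scheme.{u}} (j : A ⟶ B) [IsOpenImmersion j], P j)
    {X S : Scheme.{u}} (f : X ⟶ S) {V : S.Opens} (hV : IsAffineOpen V) {U : X.Opens} (hU : IsAffineOpen U)
    (e : U ≤ f ⁻¹ᵁ V) (h : Q (f.appLE V U e).hom) : P (U.ι ≫ f) := by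
  rw [(Iso.inv_comp_eq _).1 hU.isoSpec_inv_ι, Category.assoc, ← hV.SpecMap_appLE_fromSpec f hU e]
  exact P.comp_mem _ _ (hoi _) (P.comp_mem _ _ ((HasRingHomProperty.Spec_iff (P := P)).2 h) (hoi _))

/-- a ring property found on a localisation of a section ring gives a smaller affine chart -/
theorem exists_chart {T : ∀ {R S : Type u} [CommRing R] [CommRing S], (R →+* S) → Prop}
    (hT : ∀ {R A B : Type u} [CommRing R] [CommRing A] [CommRing B] (φ : R →+* A) (e : A ≃+* B),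
      T φ → T (e.toRingHom.comp φ)) {X S : Scheme.{u}} (f : X ⟶ S) {V : S.Opens} {U₀ : X.Opens}
    (hU₀ : IsAffineOpen U₀) (e₀ : U₀ ≤ f ⁻¹ᵁ V) {x : X} (hx : x ∈ U₀) (t : Γ(X, U₀))
    (ht : t ∉ (hU₀.primeIdealOf ⟨x, hx⟩).asIdeal)
    (hloc : T ((algebraMap Γ(X, U₀) (Localization.Away t)).comp (f.appLE V U₀ e₀).hom)) :
    ∃ (U : X.Opens) (_ : IsAffineOpen U) (_ : x ∈ U) (e : U ≤ f ⁻¹ᵁ V), T (f.appLE V U e).hom := by
  have hxt : x ∈ X.basicOpen t := by
    have h1 : hU₀.primeIdealOf ⟨x, hx⟩ ∈ hU₀.fromSpec ⁻¹ᵁ X.basicOpen t := by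
      rw [hU₀.fromSpec_preimage_basicOpen]; exact ht
    change hU₀.fromSpec _ ∈ X.basicOpen t at h1
    rwa [hU₀.fromSpec_primeIdealOf ⟨x, hx⟩] at h1
  refine ⟨X.basicOpen t, hU₀.basicOpen t, hxt, (X.basicOpen_le t).trans e₀, ?_⟩
  haveI := hU₀.isLocalization_basicOpen t
  let i := (IsLocalization.algEquiv (.powers t) (Localization.Away t) Γ(X, X.basicOpen t)).toRingEquiv
  have he : i.toRingHom.comp ((algebraMap Γ(X, U₀) (Localization.Away t)).comp (f.appLE V U₀ e₀).hom) =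
      (f.appLE V (X.basicOpen t) ((X.basicOpen_le t).trans e₀)).hom := by
    rw [← Scheme.Hom.appLE_map f e₀ (homOfLE (X.basicOpen_le t)).op, CommRingCat.hom_comp,
      ← RingHom.comp_assoc]
    congr 1
    ext r
    exact (IsLocalization.algEquiv (.powers t) (Localization.Away t) Γ(X, X.basicOpen t)).commutes r
  rw [← he]
  exact hT _ i hloc

end Groth.Agent.LocStd
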